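import Mathlib

set_option autoImplicit false
universe u

namespace Groth.Agent.Lib.Helper5.SurjOpen

theorem main15770 (B : Type u) [CommRing B] [TopologicalSpace B]
    [IsTopologicalRing B] (hB : IsOpen {b : B | IsUnit b})
    (M M' : Type u) [AddCommGroup M] [Module B M] [Module.Finite B M] [Module.Projective B M]
    [AddCommGroup M'] [Module B M'] [Module.Finite B M'] [Module.Projective B M']
    [TopologicalSpace (M →ₗ[B] M')] [IsModuleTopology B (M →ₗ[B] M')] :
    IsOpen {f : M →ₗ[B] M' | Function.Surjective f} := by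
  classical
  rw [isOpen_iff_forall_mem_open]
  intro f₀ hf₀
  obtain ⟨g₀, hg₀⟩ := Module.projective_lifting_property f₀ LinearMap.id hf₀
  obtain ⟨n, p, hp⟩ := Module.Finite.exists_fin' B M'
  obtain ⟨ι, hι⟩ := Module.projective_lifting_property p LinearMap.id hp
  let Ψ : (M →ₗ[B] M') → ((Fin n → B) →ₗ[B] (Fin n → B)) := fun f =>
    ι ∘ₗ f ∘ₗ g₀ ∘ₗ p + (LinearMap.id - ι ∘ₗ p)
  let Φ : (M →ₗ[B] M') → Matrix (Fin n) (Fin n) B := fun f => LinearMap.toMatrix' (Ψ f)
  have hΦcont : Continuous Φ := by
    refine continuous_matrix fun i j => ?_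
    let L : (M →ₗ[B] M') →ₗ[B] B :=
      (LinearMap.proj i) ∘ₗ ι ∘ₗ LinearMap.applyₗ (g₀ (p (Pi.single j 1)))
    have hL : Continuous L := IsModuleTopology.continuous_of_linearMap L
    have hΦij : (fun f => Φ f i j) = fun f => L f +
        ((LinearMap.id - ι ∘ₗ p : (Fin n → B) →ₗ[B] (Fin n → B)) (Pi.single j 1)) i := by
      funext f
      simp only [Φ, Ψ, L, LinearMap.toMatrix'_apply, LinearMap.add_apply, Pi.add_apply,
        LinearMap.comp_apply, LinearMap.proj_apply, LinearMap.applyₗ_apply_apply]
    rw [hΦij]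
    exact hL.add continuous_const
  have hdet : Continuous fun f => (Φ f).det := hΦcont.matrix_det
  refine ⟨(fun f => (Φ f).det) ⁻¹' {b : B | IsUnit b}, ?_, hB.preimage hdet, ?_⟩
  · -- every element of the preimage is surjective
    intro f hf
    have hf' : IsUnit (Φ f).det := hf
    have hunit : IsUnit (Φ f) := (Matrix.isUnit_iff_isUnit_det _).mpr hf'
    have hΨunit : IsUnit (Ψ f) := by
      have : Ψ f = (LinearMap.toMatrixAlgEquiv' (R := B) (n := Fin n)).symm (Φ f) := by
        simp [Φ, LinearMap.toMatrixAlgEquiv']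
      rw [this]
      exact hunit.map _
    have hsurj : Function.Surjective (Ψ f) := ((Module.End.isUnit_iff _).mp hΨunit).2
    intro m'
    obtain ⟨x, hx⟩ := hsurj (ι m')
    refine ⟨g₀ (p x), ?_⟩
    have h1 := congrArg p hx
    have hpι : ∀ y, p (ι y) = y := fun y => LinearMap.congr_fun hι y
    simp only [Ψ, LinearMap.add_apply, LinearMap.comp_apply, LinearMap.sub_apply,
      LinearMap.id_apply, map_add, map_sub, hpι] at h1
    rw [sub_self, add_zero] at h1
    exact h1
  · -- f₀ is in the preimage
    change IsUnit (Φ f₀).det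
    have : Ψ f₀ = LinearMap.id := by
      have h2 : f₀ ∘ₗ g₀ = LinearMap.id := hg₀
      refine LinearMap.ext fun x => ?_
      simp only [Ψ, LinearMap.add_apply, LinearMap.comp_apply, LinearMap.sub_apply,
        LinearMap.id_apply]
      have := LinearMap.congr_fun h2 (p x)
      simp only [LinearMap.comp_apply, LinearMap.id_apply] at this
      rw [this]; abel
    simp only [Φ, this, LinearMap.toMatrix'_id, Matrix.det_one, isUnit_one]

end Groth.Agent.Lib.Helper5.SurjOpen
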